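import Cfsg.Agent.H126.PwO.Nu_m3
import Cfsg.Agent.H643.PwCnt
import Cfsg.Agent.Prune
set_option linter.all false

section
prune_inst 0x7f00000000000000000000000000000000000000000000000000000000000000000000000000000000000000000000000000000000000000000000000000000000000000000000000000000000000000003fffffffffffffffffffffffffffbeffbdffffffff

-- part: H962/PP/PwPsl
section
set_option linter.all false
open scoped Cfsg.Agent.FastGrp

/-!
# Products of two elements of order prime to `N` in `PSL_n(F)` (for S2465)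

`pw_psl` (`n ≥ 4`), `pw_psl_three` (`n = 3`, `|F| ≠ 2, 3`), `allp_psl_three` (`n = 3`, `p ≥ 5`).
-/

set_option autoImplicit false

namespace Cfsg.Agent.H962.PP

open Matrix Polynomial
open Cfsg.Agent.H78.Pw

section field
variable {F : Type*} [Field F]

/-- unipotent elements -/
theorem adm_unip {r : ℕ} [hr : Fact r.Prime] [CharP F r] {d j : ℕ} (h : d + 1 ≤ r ^ j) :
    Adm F d (r ^ j) := by
  refine ⟨(X - 1) ^ d, ?_, ?_, ?_, ?_⟩
  · rw [← C_1]; exact (monic_X_sub_C 1).pow d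
  · rw [← C_1, natDegree_pow, natDegree_X_sub_C, mul_one]
  · have h1 : (X ^ (r ^ j) - 1 : F[X]) = (X - 1) ^ (r ^ j) := by
      rw [sub_pow_char_pow, one_pow]
    rw [h1, ← pow_succ']
    exact pow_dvd_pow _ h
  · rw [coeff_zero_eq_eval_zero, eval_pow, eval_sub, eval_X, eval_one, zero_sub, ← mul_pow]
    simp

/-- order 4, degree 2 -/
theorem adm_four : Adm F 2 4 := by
  refine ⟨X ^ 2 + 1, ?_, ?_, ?_, ?_⟩
  · rw [← C_1]; exact monic_X_pow_add_C 1 (by norm_num)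
  · rw [← C_1]; exact natDegree_X_pow_add_C
  · exact ⟨X + 1, by ring⟩
  · simp

/-- split, degree 2 -/
theorem adm_split {s : ℕ} (hs : s.Prime) (hs2 : s ≠ 2) {ζ : F} (hζ : ζ ^ s = 1) (h1 : ζ ≠ 1) :
    Adm F 2 s := by
  have hζ0 : ζ ≠ 0 := by
    rintro rfl
    rw [zero_pow hs.ne_zero] at hζ
    exact zero_ne_one hζ
  have := Fact.mk hs
  have hord : orderOf ζ = s := orderOf_eq_prime hζ h1
  have hinv1 : ζ⁻¹ ≠ 1 := fun h => h1 (inv_eq_one.mp h)
  have hne : ζ ≠ ζ⁻¹ := by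
    intro h
    have h2 : ζ ^ 2 = 1 := by
      rw [pow_two]; nth_rewrite 2 [h]; exact mul_inv_cancel₀ hζ0
    have h3 := orderOf_dvd_of_pow_eq_one h2
    rw [hord] at h3
    exact hs2 ((Nat.prime_dvd_prime_iff_eq hs Nat.prime_two).mp h3)
  have hroot : ∀ z : F, z ^ s = 1 → (X - C z) ∣ (X ^ s - 1 : F[X]) := by
    intro z hz
    rw [dvd_iff_isRoot]
    simp [hz]
  refine ⟨(X - C ζ) * (X - C ζ⁻¹), (monic_X_sub_C _).mul (monic_X_sub_C _), ?_, ?_, ?_⟩
  · rw [(monic_X_sub_C ζ).natDegree_mul (monic_X_sub_C _), natDegree_X_sub_C, natDegree_X_sub_C]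
  · have hcop : ∀ a b : F, a ≠ b → IsCoprime (X - C a : F[X]) (X - C b) := fun a b hab =>
      isCoprime_X_sub_C_of_isUnit_sub (sub_ne_zero.mpr hab).isUnit
    apply IsCoprime.mul_dvd
    · rw [← C_1]
      exact IsCoprime.mul_right (hcop _ _ h1.symm) (hcop _ _ hinv1.symm)
    · rw [← C_1]; simpa using hroot 1 (one_pow s)
    · exact IsCoprime.mul_dvd (hcop _ _ hne) (hroot ζ hζ) (hroot ζ⁻¹ (by rw [inv_pow, hζ, inv_one]))
  · rw [mul_coeff_zero]
    simp [hζ0]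

/-- the row from admissible exponents -/
theorem all_psl {k s t N : ℕ} (hs : Adm F (k + 2) s) (ht : Adm F (k + 1) t) (hsN : s.Coprime N)
    (htN : t.Coprime N) : All N (ProjectiveSpecialLinearGroup (Fin (k + 2)) F) := by
  intro g
  obtain ⟨x, y, hg, hx, hy⟩ := psl_mul hs ht g
  exact ⟨x, y, hg, Nat.Coprime.of_dvd_left (orderOf_dvd_of_pow_eq_one hx) hsN,
    Nat.Coprime.of_dvd_left (orderOf_dvd_of_pow_eq_one hy) htN⟩

/-- `N` prime to the characteristic -/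
theorem all_psl_unip {k r N : ℕ} [hr : Fact r.Prime] [CharP F r] (hrN : r.Coprime N) :
    All N (ProjectiveSpecialLinearGroup (Fin (k + 2)) F) := by
  have h1 : k + 3 ≤ r ^ (k + 3) := (Nat.lt_pow_self hr.out.one_lt).le
  exact all_psl (adm_unip (j := k + 3) h1) (adm_unip (j := k + 3) (by omega))
    (hrN.pow_left _) (hrN.pow_left _)

theorem coprime_six {s : ℕ} (hs : s.Prime) (h : 5 ≤ s) : s.Coprime 6 := by
  rw [hs.coprime_iff_not_dvd]
  intro h1
  have h2 := Nat.le_of_dvd (by norm_num) h1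
  interval_cases s
  · exact absurd h1 (by norm_num)
  · exact absurd hs (by norm_num)

theorem coprime_char [Finite F] {r s : ℕ} [hr : Fact r.Prime] [CharP F r] (hs : s.Prime)
    (h : ¬ s ∣ Nat.card F) : s.Coprime r := by
  rw [Nat.coprime_primes hs hr.out]
  rintro rfl
  apply h
  have : Fintype F := Fintype.ofFinite F
  obtain ⟨e, he⟩ := FiniteField.card F s
  rw [Nat.card_eq_fintype_card, he.2]
  exact dvd_pow_self _ (PNat.ne_zero e)

/-- **`p` prime, `p ≥ 5`, `n ≥ 3`** -/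
theorem allp_psl [Finite F] {n : ℕ} (hn : 3 ≤ n) {p : ℕ} (hp : p.Prime) (h5 : 5 ≤ p) :
    All p (ProjectiveSpecialLinearGroup (Fin n) F) := by
  obtain ⟨k, rfl⟩ : ∃ k, n = k + 2 := ⟨n - 2, by omega⟩
  obtain ⟨r, hrc⟩ := CharP.exists F
  have hr : Fact r.Prime := ⟨CharP.char_is_prime F r⟩
  by_cases hpr : p = r
  · subst hpr
    obtain ⟨s, hs, hs1, -, hsq, hsa⟩ := exists_adm (F := F) (d := k + 2) (by omega)
    have hsc : s.Coprime p := coprime_char hs hsq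
    by_cases hk : k = 1
    · subst hk
      refine all_psl hsa adm_four hsc ?_
      have h4 : (4 : ℕ) = 2 ^ 2 := by norm_num
      rw [h4]
      apply Nat.Coprime.pow_left
      rw [Nat.coprime_primes Nat.prime_two hp]
      omega
    · obtain ⟨t, ht, ht1, ht5, htq, hta⟩ := exists_adm (F := F) (d := k + 1) (by omega)
      exact all_psl hsa hta hsc (coprime_char ht htq)
  · exact all_psl_unip (r := r) ((Nat.coprime_primes hr.out hp).mpr (Ne.symm hpr))

/-- **`N = 6`, `n ≥ 4`** -/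
theorem all6_psl [Finite F] {n : ℕ} (hn : 4 ≤ n) :
    All 6 (ProjectiveSpecialLinearGroup (Fin n) F) := by
  obtain ⟨k, rfl⟩ : ∃ k, n = k + 2 := ⟨n - 2, by omega⟩
  obtain ⟨s, hs, hs1, hs5, hsq, hsa⟩ := exists_adm (F := F) (d := k + 2) (by omega)
  obtain ⟨t, ht, ht1, ht5, htq, hta⟩ := exists_adm (F := F) (d := k + 1) (by omega)
  exact all_psl hsa hta (coprime_six hs hs5) (coprime_six ht ht5)

end field

/-- **`PSL_n(F)`, `n ≥ 4`.** -/
theorem pw_psl {n : ℕ} (hn : 4 ≤ n) (F : Type*) [Field F] [Finite F] :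
    Pw (ProjectiveSpecialLinearGroup (Fin n) F) :=
  ⟨all6_psl hn, fun _ hp h5 => allp_psl (by omega) hp h5⟩

/-- degree 2, order prime to 6 -/
theorem exists_adm_two {F : Type*} [Field F] [Finite F] (h2 : Nat.card F ≠ 2)
    (h3 : Nat.card F ≠ 3) {r : ℕ} [hr : Fact r.Prime] [CharP F r] (hr5 : r < 5) :
    ∃ t : ℕ, t.Coprime 6 ∧ Adm F 2 t := by
  have : Fintype F := Fintype.ofFinite F
  obtain ⟨e, he⟩ := FiniteField.card F r
  have hq : Nat.card F = r ^ (e : ℕ) := by rw [Nat.card_eq_fintype_card, he.2]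
  have hr23 : r = 2 ∨ r = 3 := by
    have h1 := hr.out
    interval_cases r
    · exact absurd h1 (by norm_num)
    · exact absurd h1 (by norm_num)
    · left; rfl
    · right; rfl
    · exact absurd h1 (by norm_num)
  have he2 : 2 ≤ (e : ℕ) := by
    by_contra h
    have h1 : (e : ℕ) = 1 := by have := e.pos; omega
    rw [h1, pow_one] at hq
    rcases hr23 with rfl | rfl
    · exact h2 hq
    · exact h3 hq
  by_cases h8 : r = 2 ∧ 2 * (e : ℕ) = 6
  · have hcard : Nat.card Fˣ = 7 := by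
      rw [Nat.card_units, hq, h8.1, show (e : ℕ) = 3 by omega]; norm_num
    have h7 : Fact (Nat.Prime 7) := ⟨by norm_num⟩
    obtain ⟨u, hu⟩ := exists_prime_orderOf_dvd_card' (G := Fˣ) 7 (by rw [hcard])
    refine ⟨7, by norm_num, adm_split (ζ := (u : F)) (by norm_num) (by norm_num) ?_ ?_⟩
    · rw [← Units.val_pow_eq_pow_val, ← hu, pow_orderOf_eq_one, Units.val_one]
    · intro h
      rw [Units.val_eq_one.mp h, orderOf_one] at hu
      omega
  · obtain ⟨t, ht, hord⟩ := Lib.Zsigmondy.exists_prime_orderOf (a := r) (n := 2 * (e : ℕ))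
      hr.out.two_le (by omega) (by omega) h8
    have htr : ¬ t ∣ r := by
      intro h
      have := Fact.mk ht
      rw [(ZMod.natCast_eq_zero_iff r t).2 h, orderOf_eq_zero] at hord
      · omega
      · rw [isOfFinOrder_iff_pow_eq_one]
        rintro ⟨n, hn, h⟩
        rw [zero_pow (by omega)] at h
        exact zero_ne_one h
    have h1 := Lib.Zsigmondy.orderOf_dvd_pred ht htr
    rw [hord] at h1
    have h4 : 2 * (e : ℕ) ≤ t - 1 := Nat.le_of_dvd (by have := ht.two_le; omega) h1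
    refine ⟨t, coprime_six ht (by omega), adm_prime ht le_rfl ?_⟩
    rw [hq, Nat.cast_pow, orderOf_pow_of_dvd (by omega) (by rw [hord]; exact dvd_mul_left _ _),
      hord, Nat.mul_div_cancel _ (by omega)]

/-- **`PSL_3(F)`, `|F| ≠ 2, 3`.** -/
theorem pw_psl_three (F : Type*) [Field F] [Finite F] (h2 : Nat.card F ≠ 2) (h3 : Nat.card F ≠ 3) :
    Pw (ProjectiveSpecialLinearGroup (Fin 3) F) := by
  refine ⟨?_, fun _ hp h5 => allp_psl le_rfl hp h5⟩
  obtain ⟨r, hrc⟩ := CharP.exists F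
  have hr : Fact r.Prime := ⟨CharP.char_is_prime F r⟩
  rcases lt_or_ge r 5 with h5 | h5
  · obtain ⟨s, hs, hs1, hs5, hsq, hsa⟩ := exists_adm (F := F) (d := 3) (by omega)
    obtain ⟨t, ht, hta⟩ := exists_adm_two h2 h3 h5
    exact all_psl (k := 1) hsa hta (coprime_six hs hs5) ht
  · exact all_psl_unip (k := 1) (r := r) (coprime_six hr.out h5)

end Cfsg.Agent.H962.PP
end

-- part: H98/Pw/SLThree
section
set_option linter.all false
open scoped Cfsg.Agent.FastGrp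

/-!
# `SL_3(2)`, `SL_3(3)`: every element is a product of two elements of order 7 / 13 (helper98, for S2465)
-/

set_option autoImplicit false
set_option maxRecDepth 100000

namespace Cfsg.Agent.H98.Pw

open Matrix Polynomial
open Cfsg.Agent.H78.Pw
open Cfsg.Agent.H962.PP (LH)

section gen

variable {F : Type*} [Field F]

/-- a nonscalar matrix is similar to one with first row `(0, 1, 0)` -/
theorem exists_first (A : Matrix (Fin 3) (Fin 3) F) (hA : ∀ c : F, A ≠ scalar (Fin 3) c) :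
    ∃ R L : Matrix (Fin 3) (Fin 3) F, IsUnit R.det ∧ R * A = L * R ∧ L 0 0 = 0 ∧ L 0 1 = 1 ∧ L 0 2 = 0 := by
  have H : ∃ R L : Matrix (Fin 3) (Fin 3) F, IsUnit R.det ∧ R * A = L * R ∧ LH L ∧ L 0 1 ≠ 0 :=
    Cfsg.Agent.H962.PP.exists_hess (k := 1) A hA
  obtain ⟨R, L, hR, hRA, hL, h01⟩ := H
  have h02 : L 0 2 = 0 := hL 0 2 (by decide)
  set a := L 0 0 with ha
  set b := L 0 1 with hb
  have hb0 : b ≠ 0 := h01
  let S : Matrix (Fin 3) (Fin 3) F := !![1, 0, 0; a, b, 0; 0, 0, 1]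
  let T : Matrix (Fin 3) (Fin 3) F := !![1, 0, 0; -a * b⁻¹, b⁻¹, 0; 0, 0, 1]
  have hTS : T * S = 1 := by
    ext i j
    fin_cases i <;> fin_cases j <;> simp [S, T, Matrix.mul_apply, Fin.sum_univ_three, hb0, mul_comm]
  have hS : IsUnit S.det := by
    have h1 := congrArg Matrix.det hTS
    rw [det_mul, det_one] at h1
    exact IsUnit.of_mul_eq_one_right _ h1
  have hSL : ∀ j, (S * L) 0 j = L 0 j := fun j => by
    rw [Matrix.mul_apply, Fin.sum_univ_three]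
    simp [S]
  have hr : ∀ j, (S * L * T) 0 j = a * T 0 j + b * T 1 j := fun j => by
    rw [Matrix.mul_apply, Fin.sum_univ_three, hSL, hSL, hSL, h02, zero_mul, add_zero]
  refine ⟨S * R, S * L * T, ?_, ?_, ?_, ?_, ?_⟩
  · rw [det_mul]
    exact hS.mul hR
  · calc S * R * A = S * (L * R) := by rw [mul_assoc, hRA]
      _ = S * L * (T * S) * R := by rw [hTS, mul_one, mul_assoc]
      _ = S * L * T * (S * R) := by simp only [mul_assoc]
  · rw [hr]
    simp only [T, Matrix.of_apply, Matrix.cons_val', Matrix.cons_val_zero, Matrix.cons_val_one, Matrix.cons_val_fin_one]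
    field_simp
    ring
  · rw [hr]
    simp only [T, Matrix.of_apply, Matrix.cons_val', Matrix.cons_val_zero, Matrix.cons_val_one, Matrix.cons_val_fin_one]
    field_simp
    ring
  · rw [hr]
    simp [T]

/-- sum of the principal `2 × 2` minors -/
def s2 (M : Matrix (Fin 3) (Fin 3) F) : F :=
  M 0 0 * M 1 1 + M 0 0 * M 2 2 + M 1 1 * M 2 2 - (M 0 1 * M 1 0 + M 0 2 * M 2 0 + M 1 2 * M 2 1)

/-- Cayley-Hamilton -/
theorem ch3 (M : Matrix (Fin 3) (Fin 3) F) :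
    M * M * M - M.trace • (M * M) + s2 M • M - M.det • (1 : Matrix (Fin 3) (Fin 3) F) = 0 := by
  ext i j
  (revert i j; simp only [Matrix.mul_apply, Fin.sum_univ_three, Matrix.det_fin_three, Matrix.trace, s2, _root_.Fin.forall_fin_succ, _root_.Matrix.diag_apply, Fin.isValue, _root_.Matrix.sub_apply, _root_.Matrix.add_apply, _root_.Matrix.smul_apply, _root_.smul_eq_mul, _root_.Matrix.zero_apply, _root_.Fin.succ_zero_eq_one, _root_.Fin.succ_one_eq_two, _root_.IsEmpty.forall_iff, _root_.and_true, _root_.Matrix.one_apply_eq, _root_.mul_one, Nat.reduceAdd, _root_.ne_eq, _root_.zero_ne_one, _root_.not_false_eq_true, _root_.Matrix.one_apply_ne, _root_.MulZeroClass.mul_zero, _root_.sub_zero, Fin.reduceEq, _root_.Fin.succ_ne_zero]) <;> (repeat' with_reducible apply And.intro) <;> ring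

theorem conj_pow' {P Q M : Matrix (Fin 3) (Fin 3) F} (h : Q * P = 1) (k : ℕ) :
    (P * M * Q) ^ k = P * M ^ k * Q := by
  have hPQ : P * Q = 1 := mul_eq_one_comm.1 h
  induction k with
  | zero => rw [pow_zero, pow_zero, mul_one, hPQ]
  | succ k ih =>
    rw [pow_succ, ih, pow_succ]
    calc P * M ^ k * Q * (P * M * Q) = P * M ^ k * (Q * P) * M * Q := by simp only [mul_assoc]
      _ = _ := by rw [h]; simp only [mul_assoc, mul_one, one_mul]

end gen

/-- Nat-coded matrices -/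
abbrev T9 := ℕ × ℕ × ℕ × ℕ × ℕ × ℕ × ℕ × ℕ × ℕ

def mk9 (q : ℕ) : T9 → Matrix (Fin 3) (Fin 3) (ZMod q)
  | (z0, z1, z2, z3, z4, z5, z6, z7, z8) => !![z0, z1, z2; z3, z4, z5; z6, z7, z8]

def mkL (q c d e f g h : ℕ) : Matrix (Fin 3) (Fin 3) (ZMod q) := !![0, 1, 0; c, d, e; f, g, h]

/-- trace and second coefficient of `mkL * mk9 z` -/
def ck (q w t s c d e f g h : ℕ) : T9 → Bool
  | (z0, z1, z2, z3, z4, z5, z6, z7, z8) =>
    (z3 + (c * z1 + d * z4 + e * z7) + (f * z2 + g * z5 + h * z8)) % q == t &&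
    (z3 * (c * z1 + d * z4 + e * z7) + z3 * (f * z2 + g * z5 + h * z8) +
      (c * z1 + d * z4 + e * z7) * (f * z2 + g * z5 + h * z8) +
      w * (z4 * (c * z0 + d * z3 + e * z6) + z5 * (f * z0 + g * z3 + h * z6) +
        (c * z2 + d * z5 + e * z8) * (f * z1 + g * z4 + h * z7))) % q == s

theorem cast_eq {q a t : ℕ} (h : a % q = t) : (a : ZMod q) = t := by
  rw [← h, ZMod.natCast_mod]

theorem ck_spec {q w t s c d e f g h : ℕ} [Fact q.Prime] {z : T9} (hw : (w : ZMod q) = -1) (hk : ck q w t s c d e f g h z = true) :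
    (mkL q c d e f g h * mk9 q z).trace = t ∧ s2 (mkL q c d e f g h * mk9 q z) = s := by
  obtain ⟨z0, z1, z2, z3, z4, z5, z6, z7, z8⟩ := z
  simp only [ck, Bool.and_eq_true, beq_iff_eq] at hk
  obtain ⟨h1, h2⟩ := hk
  have h1' := cast_eq h1
  have h2' := cast_eq h2
  push_cast at h1' h2'
  rw [hw] at h2'
  constructor
  · rw [← h1']
    simp only [mkL, mk9, Matrix.trace, Fin.sum_univ_three, _root_.Matrix.trace, _root_.Cfsg.Agent.H98.Pw.mkL, _root_.Cfsg.Agent.H98.Pw.mk9, _root_.Matrix.cons_mul, _root_.Nat.succ_eq_add_one, _root_.Nat.reduceAdd, _root_.Matrix.vecMul_cons, _root_.Matrix.head_cons, _root_.zero_smul, _root_.Matrix.tail_cons, _root_.one_smul, _root_.Matrix.empty_vecMul, _root_.add_zero, _root_.zero_add, _root_.Matrix.smul_cons, _root_.smul_eq_mul, _root_.Matrix.smul_empty, _root_.Matrix.add_cons, _root_.Matrix.empty_add_empty, _root_.Matrix.empty_mul, _root_.Equiv.symm_apply_apply, _root_.Matrix.diag_apply,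 _root_.Matrix.of_apply, _root_.Matrix.cons_val', _root_.Matrix.cons_val_fin_one, _root_.Fin.sum_univ_three, _root_.Fin.isValue, _root_.Matrix.cons_val_zero, _root_.Matrix.cons_val_one, _root_.Matrix.cons_val]
    ring
  · rw [← h2']
    simp only [mkL, mk9, s2, Matrix.mul_apply, Fin.sum_univ_three, _root_.Cfsg.Agent.H98.Pw.s2, _root_.Cfsg.Agent.H98.Pw.mkL, _root_.Cfsg.Agent.H98.Pw.mk9, _root_.Fin.isValue, _root_.Matrix.mul_apply, _root_.Matrix.of_apply, _root_.Matrix.cons_val', _root_.Matrix.cons_val_fin_one, _root_.Matrix.cons_val_zero, _root_.Fin.sum_univ_three, _root_.MulZeroClass.zero_mul, _root_.Matrix.cons_val_one, _root_.one_mul, _root_.zero_add, _root_.Matrix.cons_val, _root_.add_zero, _root_.neg_mul, _root_.neg_add_rev]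
    ring

def tab2 : List T9 := [(1, 1, 0, 1, 1, 1, 0, 1, 0), (1, 1, 1, 0, 1, 1, 1, 0, 1), (1, 1, 1, 0, 1, 1, 1, 1, 0),
  (0, 1, 0, 1, 1, 1, 0, 1, 1), (1, 1, 0, 1, 1, 1, 1, 0, 1), (0, 1, 0, 0, 0, 1, 1, 1, 0), (1, 1, 0, 0, 0, 1, 1, 0, 0)]

def tab3 : List T9 := [(0, 2, 2, 2, 1, 2, 1, 2, 0), (2, 2, 1, 0, 1, 2, 1, 1, 1), (0, 0, 2, 0, 2, 1, 2, 1, 2),
  (0, 2, 0, 0, 2, 2, 1, 1, 2), (0, 2, 0, 0, 1, 1, 2, 1, 0), (0, 2, 1, 0, 0, 1, 2, 2, 1), (0, 1, 1, 1, 1, 2, 2, 2, 0),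
  (0, 1, 1, 0, 0, 2, 2, 1, 1), (2, 2, 2, 2, 1, 0, 1, 2, 1), (2, 1, 0, 1, 2, 1, 0, 1, 0), (1, 2, 1, 1, 0, 1, 2, 0, 0),
  (1, 2, 2, 0, 1, 2, 2, 1, 2), (2, 2, 1, 1, 1, 1, 1, 0, 1), (2, 0, 2, 0, 1, 2, 1, 2, 1), (1, 0, 1, 1, 1, 1, 1, 2, 2),
  (2, 0, 1, 1, 2, 0, 2, 2, 0), (1, 1, 1, 1, 2, 1, 0, 2, 1), (1, 1, 0, 1, 2, 1, 2, 2, 1), (2, 0, 1, 1, 2, 1, 0, 2, 0),
  (2, 2, 0, 1, 0, 1, 1, 0, 2)]

def allB (q w t s : ℕ) (tab : List T9) : Bool :=
  (List.range q).all fun c => (List.range q).all fun d => (List.range q).all fun e =>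
  (List.range q).all fun f => (List.range q).all fun g => (List.range q).all fun h =>
    (e * f + w * (c * h)) % q != 1 || tab.any (ck q w t s c d e f g h)

theorem allB_spec {q w t s : ℕ} {tab : List T9} (h : allB q w t s tab = true) {c d e f g k : ℕ} (hc : c < q)
    (hd : d < q) (he : e < q) (hf : f < q) (hg : g < q) (hk : k < q) (h1 : (e * f + w * (c * k)) % q = 1) :
    ∃ z ∈ tab, ck q w t s c d e f g k z = true := by
  simp only [allB, List.all_eq_true, List.mem_range, Bool.or_eq_true, bne_iff_ne, List.any_eq_true] at h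
  rcases h c hc d hd e he f hf g hg k hk with h2 | h2
  · exact absurd h1 h2
  · exact h2

theorem all2 : allB 2 1 0 1 tab2 = true := by decide +kernel

theorem all3 : allB 3 2 0 2 tab3 = true := by decide +kernel

theorem tab2_ok : ∀ z ∈ tab2, (mk9 2 z).det = 1 ∧ (mk9 2 z) * ((mk9 2 z) * (mk9 2 z)) ^ 3 = 1 ∧ mk9 2 z ≠ 1 := by
  decide +kernel

theorem tab3_ok : ∀ z ∈ tab3, (mk9 3 z).det = 1 ∧ (mk9 3 z).trace = 1 ∧ s2 (mk9 3 z) = 2 ∧ mk9 3 z ≠ 1 := by
  decide +kernel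

/-! ### Orders -/

theorem pow_of_dvd {q n : ℕ} [Fact q.Prime] {M : Matrix (Fin 3) (Fin 3) (ZMod q)} {f : (ZMod q)[X]} (hf : aeval M f = 0)
    (hd : f ∣ X ^ n - 1) : M ^ n = 1 := by
  obtain ⟨g, hg⟩ := hd
  have h1 : aeval M (X ^ n - 1 : (ZMod q)[X]) = 0 := by rw [hg, map_mul, hf, zero_mul]
  rwa [map_sub, map_pow, aeval_X, map_one, sub_eq_zero] at h1

instance : Fact (Nat.Prime 2) := ⟨Nat.prime_two⟩

theorem two_poly : (2 : (ZMod 2)[X]) = 0 := by
  have h : ((2 : ℕ) : (ZMod 2)[X]) = 0 := CharP.cast_eq_zero _ 2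
  exact_mod_cast h

theorem three_poly : (3 : (ZMod 3)[X]) = 0 := by
  have h : ((3 : ℕ) : (ZMod 3)[X]) = 0 := CharP.cast_eq_zero _ 3
  exact_mod_cast h

theorem pow_seven {M : Matrix (Fin 3) (Fin 3) (ZMod 2)} (ht : M.trace = 0) (hs : s2 M = 1) (hd : M.det = 1) :
    M ^ 7 = 1 := by
  refine pow_of_dvd (f := X ^ 3 + X - 1) ?_ ?_
  · have h := ch3 M
    rw [ht, hs, hd, zero_smul, one_smul, one_smul, sub_zero] at h
    rw [map_sub, map_add, map_pow, aeval_X, map_one, pow_succ, pow_two]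
    exact h
  · refine ⟨(1) * X ^ 0 + (1) * X ^ 1 + (-1) * X ^ 2 + (1) * X ^ 4, ?_⟩
    linear_combination ((-1) * X ^ 2) * two_poly

theorem pow_thirteen {M : Matrix (Fin 3) (Fin 3) (ZMod 3)} (ht : M.trace = 0) (hs : s2 M = 2) (hd : M.det = 1) :
    M ^ 13 = 1 := by
  refine pow_of_dvd (f := X ^ 3 + 2 * X - 1) ?_ ?_
  · have h := ch3 M
    rw [ht, hs, hd, zero_smul, one_smul, sub_zero] at h
    rw [map_sub, map_add, map_mul, map_pow, aeval_X, map_one, pow_succ, pow_two, map_ofNat]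
    rw [two_smul] at h
    rw [two_mul]
    exact h
  · refine ⟨(-8) * X ^ 0 + (-31) * X ^ 1 + (10) * X ^ 2 + (12) * X ^ 3 + (-7) * X ^ 4 + (-4) * X ^ 5 + (4) * X ^ 6 + (1) * X ^ 7 + (-2) * X ^ 8 + (1) * X ^ 10, ?_⟩
    linear_combination ((-3) * X ^ 0 + (-5) * X ^ 1 + (24) * X ^ 2) * three_poly

theorem pow_thirteen' {M : Matrix (Fin 3) (Fin 3) (ZMod 3)} (ht : M.trace = 1) (hs : s2 M = 2) (hd : M.det = 1) :
    M ^ 13 = 1 := by
  refine pow_of_dvd (f := X ^ 3 - X ^ 2 + 2 * X - 1) ?_ ?_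
  · have h := ch3 M
    rw [ht, hs, hd, one_smul, one_smul] at h
    rw [map_sub, map_add, map_sub, map_mul, map_pow, map_pow, aeval_X, map_one, pow_succ, pow_two, map_ofNat]
    rw [two_smul] at h
    rw [two_mul]
    exact h
  · refine ⟨(10) * X ^ 0 + (11) * X ^ 1 + (-3) * X ^ 2 + (-7) * X ^ 3 + (4) * X ^ 5 + (1) * X ^ 6 + (-2) * X ^ 7 + (-1) * X ^ 8 + (1) * X ^ 9 + (1) * X ^ 10, ?_⟩
    linear_combination ((3) * X ^ 0 + (-3) * X ^ 1 + (-5) * X ^ 2) * three_poly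

/-! ### Matrices -/

theorem mkL_eq {q : ℕ} [Fact q.Prime] {L : Matrix (Fin 3) (Fin 3) (ZMod q)} (h0 : L 0 0 = 0) (h1 : L 0 1 = 1) (h2 : L 0 2 = 0) :
    L = mkL q (L 1 0).val (L 1 1).val (L 1 2).val (L 2 0).val (L 2 1).val (L 2 2).val := by
  ext i j
  (revert i j; simp only [mkL, h0, h1, h2, _root_.Fin.forall_fin_succ, Fin.isValue, _root_.ZMod.natCast_val, _root_.ZMod.cast_id', _root_.id_eq, _root_.Matrix.of_apply, _root_.Matrix.cons_val', _root_.Matrix.cons_val_fin_one, _root_.Matrix.cons_val_zero, _root_.Matrix.cons_val_succ, _root_.Fin.succ_zero_eq_one, _root_.Fin.succ_one_eq_two, _root_.IsEmpty.forall_iff, _root_.and_true, _root_.and_self])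

/-- from the table -/
theorem exists_of_tab {q w t s : ℕ} [Fact q.Prime] {tab : List T9} (hw : (w : ZMod q) = -1)
    (hB : allB q w t s tab = true) {L : Matrix (Fin 3) (Fin 3) (ZMod q)} (h0 : L 0 0 = 0) (h1 : L 0 1 = 1) (h2 : L 0 2 = 0)
    (hd : L.det = 1) : ∃ z ∈ tab, (L * mk9 q z).trace = t ∧ s2 (L * mk9 q z) = s := by
  have hL := mkL_eq h0 h1 h2
  have h3 : ((L 1 2).val * (L 2 0).val + w * ((L 1 0).val * (L 2 2).val)) % q = 1 := by
    have h4 : (((L 1 2).val * (L 2 0).val + w * ((L 1 0).val * (L 2 2).val) : ℕ) : ZMod q) = ((1 : ℕ) : ZMod q) := by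
      push_cast
      rw [hw]
      simp only [ZMod.natCast_val, ZMod.cast_id', id_eq]
      have hd' := hd
      rw [Matrix.det_fin_three, h0, h1, h2] at hd'
      linear_combination hd'
    have h5 := (ZMod.natCast_eq_natCast_iff' _ _ q).1 h4
    rw [h5, Nat.mod_eq_of_lt (Fact.out : q.Prime).one_lt]
  obtain ⟨z, hz, hk⟩ := allB_spec hB (ZMod.val_lt _) (ZMod.val_lt (L 1 1)) (ZMod.val_lt _) (ZMod.val_lt _)
    (ZMod.val_lt (L 2 1)) (ZMod.val_lt _) h3
  refine ⟨z, hz, ?_⟩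
  have h6 := ck_spec hw hk
  rwa [← hL] at h6

/-- **`SL_3(q)`, `q = 2, 3`, matrix form, nonscalar** -/
theorem mat_of {q w t s n : ℕ} [Fact q.Prime] {tab : List T9} (hw : (w : ZMod q) = -1)
    (hB : allB q w t s tab = true) (hn : 0 < n)
    (hX : ∀ M : Matrix (Fin 3) (Fin 3) (ZMod q), M.trace = t → s2 M = s → M.det = 1 → M ^ n = 1 ∧ M ≠ 1)
    (hZ : ∀ z ∈ tab, (mk9 q z).det = 1 ∧ (mk9 q z) ^ n = 1 ∧ mk9 q z ≠ 1)
    {A : Matrix (Fin 3) (Fin 3) (ZMod q)} (hA : ∀ c : ZMod q, A ≠ scalar (Fin 3) c) (hd : A.det = 1) :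
    ∃ x y : Matrix (Fin 3) (Fin 3) (ZMod q), A = x * y ∧ x ^ n = 1 ∧ y ^ n = 1 ∧ x.det = 1 ∧ y.det = 1 ∧ x ≠ 1 ∧ y ≠ 1 := by
  obtain ⟨R, L, hR, hRA, h0, h1, h2⟩ := exists_first A hA
  have hRR : R⁻¹ * R = 1 := Matrix.nonsing_inv_mul _ hR
  have hRR' : R * R⁻¹ = 1 := Matrix.mul_nonsing_inv _ hR
  have hAe : A = R⁻¹ * L * R := by
    calc A = R⁻¹ * R * A := by rw [hRR, one_mul]
      _ = _ := by rw [mul_assoc, hRA, ← mul_assoc]
  have hc : ∀ M : Matrix (Fin 3) (Fin 3) (ZMod q), (R⁻¹ * M * R).det = M.det := by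
    intro M
    have h3 := congrArg Matrix.det hRR
    rw [det_mul, det_one] at h3
    rw [det_mul, det_mul]
    calc R⁻¹.det * M.det * R.det = (R⁻¹.det * R.det) * M.det := by ring
      _ = M.det := by rw [h3, one_mul]
  have hne : ∀ M : Matrix (Fin 3) (Fin 3) (ZMod q), M ≠ 1 → R⁻¹ * M * R ≠ 1 := by
    intro M hM h3
    apply hM
    calc M = (R * R⁻¹) * M * (R * R⁻¹) := by rw [hRR', one_mul, mul_one]
      _ = R * (R⁻¹ * M * R) * R⁻¹ := by simp only [mul_assoc]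
      _ = 1 := by rw [h3, mul_one, hRR']
  have hLd : L.det = 1 := by rw [← hc L, ← hAe, hd]
  obtain ⟨z, hz, ht, hs⟩ := exists_of_tab hw hB h0 h1 h2 hLd
  obtain ⟨hzd, hzn, hz1⟩ := hZ z hz
  set Z := mk9 q z with hZd
  obtain ⟨hXn, hX1⟩ := hX (L * Z) ht hs (by rw [det_mul, hLd, hzd, one_mul])
  have hZZ : Z * Z ^ (n - 1) = 1 := by
    rw [← pow_succ', Nat.sub_add_cancel hn, hzn]
  have hZ1 : Z ^ (n - 1) ≠ 1 := by
    intro h3
    rw [h3, mul_one] at hZZ
    exact hz1 hZZ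
  refine ⟨R⁻¹ * (L * Z) * R, R⁻¹ * Z ^ (n - 1) * R, ?_, ?_, ?_, ?_, ?_, hne _ hX1, hne _ hZ1⟩
  · rw [hAe]
    calc R⁻¹ * L * R = R⁻¹ * (L * (Z * Z ^ (n - 1))) * R := by rw [hZZ, mul_one]
      _ = R⁻¹ * (L * Z) * (1 * Z ^ (n - 1)) * R := by rw [one_mul]; simp only [mul_assoc]
      _ = R⁻¹ * (L * Z) * ((R * R⁻¹) * Z ^ (n - 1)) * R := by rw [hRR']
      _ = _ := by simp only [mul_assoc]
  · rw [conj_pow' hRR', hXn, mul_one, hRR]
  · rw [conj_pow' hRR', ← pow_mul, mul_comm, pow_mul, hzn, one_pow, mul_one, hRR]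
  · rw [hc, det_mul, hLd, hzd, one_mul]
  · rw [hc, det_pow, hzd, one_pow]

/-- the scalar matrices of `SL_3(q)`, `q = 2, 3` -/
theorem scalar_one2 (c : ZMod 2) (h : c ^ 3 = 1) : c = 1 := by revert c; decide

theorem scalar_one3 (c : ZMod 3) (h : c ^ 3 = 1) : c = 1 := by revert c; decide

theorem tab2_pow : ∀ z ∈ tab2, (mk9 2 z).det = 1 ∧ (mk9 2 z) ^ 7 = 1 ∧ mk9 2 z ≠ 1 := by
  intro z hz
  obtain ⟨h1, h2, h3⟩ := tab2_ok z hz
  refine ⟨h1, ?_, h3⟩
  rw [← h2, ← pow_two, ← pow_mul, ← pow_succ']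

theorem tab3_pow : ∀ z ∈ tab3, (mk9 3 z).det = 1 ∧ (mk9 3 z) ^ 13 = 1 ∧ mk9 3 z ≠ 1 := by
  intro z hz
  obtain ⟨h1, h2, h3, h4⟩ := tab3_ok z hz
  exact ⟨h1, pow_thirteen' h2 h3 h1, h4⟩

/-- all matrices of determinant 1 -/
theorem mat_all {q w t s n : ℕ} [Fact q.Prime] {tab : List T9} (hw : (w : ZMod q) = -1)
    (hB : allB q w t s tab = true) (hn : 0 < n) (hsc : ∀ c : ZMod q, c ^ 3 = 1 → c = 1)
    (hX : ∀ M : Matrix (Fin 3) (Fin 3) (ZMod q), M.trace = t → s2 M = s → M.det = 1 → M ^ n = 1 ∧ M ≠ 1)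
    (hZ : ∀ z ∈ tab, (mk9 q z).det = 1 ∧ (mk9 q z) ^ n = 1 ∧ mk9 q z ≠ 1) (hne : tab ≠ [])
    (A : Matrix (Fin 3) (Fin 3) (ZMod q)) (hd : A.det = 1) :
    ∃ x y : Matrix (Fin 3) (Fin 3) (ZMod q), A = x * y ∧ x ^ n = 1 ∧ y ^ n = 1 ∧ x.det = 1 ∧ y.det = 1 ∧ x ≠ 1 ∧ y ≠ 1 := by
  by_cases hA : ∀ c : ZMod q, A ≠ scalar (Fin 3) c
  · exact mat_of hw hB hn hX hZ hA hd
  · push Not at hA
    obtain ⟨c, rfl⟩ := hA
    have h1 : c ^ 3 = 1 := by
      rw [scalar_apply, det_diagonal, Finset.prod_const, Finset.card_univ, Fintype.card_fin] at hd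
      exact hd
    rw [hsc c h1, map_one]
    obtain ⟨z, hz⟩ := List.exists_mem_of_ne_nil tab hne
    obtain ⟨hzd, hzn, hz1⟩ := hZ z hz
    have hZZ : mk9 q z * mk9 q z ^ (n - 1) = 1 := by
      rw [← pow_succ', Nat.sub_add_cancel hn, hzn]
    refine ⟨mk9 q z, mk9 q z ^ (n - 1), hZZ.symm, hzn, ?_, hzd, ?_, hz1, ?_⟩
    · rw [← pow_mul, mul_comm, pow_mul, hzn, one_pow]
    · rw [det_pow, hzd, one_pow]
    · intro h3
      rw [h3, mul_one] at hZZ
      exact hz1 hZZ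

/-- **`SL_3(2)`**: every matrix of determinant 1 is a product of two matrices of order 7. -/
theorem mat_two (A : Matrix (Fin 3) (Fin 3) (ZMod 2)) (hd : A.det = 1) :
    ∃ x y : Matrix (Fin 3) (Fin 3) (ZMod 2), A = x * y ∧ x ^ 7 = 1 ∧ y ^ 7 = 1 ∧ x.det = 1 ∧ y.det = 1 ∧ x ≠ 1 ∧ y ≠ 1 := by
  refine mat_all (t := 0) (s := 1) (w := 1) (by decide) all2 (by norm_num) scalar_one2 ?_ tab2_pow (by decide) A hd
  intro M ht hs hd
  rw [Nat.cast_zero] at ht
  rw [Nat.cast_one] at hs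
  refine ⟨pow_seven ht hs hd, ?_⟩
  rintro rfl
  exact absurd ht (by decide)

/-- **`SL_3(3)`**: every matrix of determinant 1 is a product of two matrices of order 13. -/
theorem mat_three (A : Matrix (Fin 3) (Fin 3) (ZMod 3)) (hd : A.det = 1) :
    ∃ x y : Matrix (Fin 3) (Fin 3) (ZMod 3), A = x * y ∧ x ^ 13 = 1 ∧ y ^ 13 = 1 ∧ x.det = 1 ∧ y.det = 1 ∧ x ≠ 1 ∧ y ≠ 1 := by
  refine mat_all (t := 0) (s := 2) (w := 2) (by decide) all3 (by norm_num) scalar_one3 ?_ tab3_pow (by decide) A hd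
  intro M ht hs hd
  rw [Nat.cast_zero] at ht
  have hs' : s2 M = 2 := by rw [hs]; rfl
  refine ⟨pow_thirteen ht hs' hd, ?_⟩
  rintro rfl
  exact absurd hs' (by decide)

/-! ### The groups -/

/-- special linear form over `ZMod q` -/
theorem sl_of {q n : ℕ} [Fact q.Prime]
    (h : ∀ A : Matrix (Fin 3) (Fin 3) (ZMod q), A.det = 1 → ∃ x y : Matrix (Fin 3) (Fin 3) (ZMod q), A = x * y ∧
      x ^ n = 1 ∧ y ^ n = 1 ∧ x.det = 1 ∧ y.det = 1 ∧ x ≠ 1 ∧ y ≠ 1) (A : SpecialLinearGroup (Fin 3) (ZMod q)) :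
    ∃ x y : SpecialLinearGroup (Fin 3) (ZMod q), A = x * y ∧ x ^ n = 1 ∧ y ^ n = 1 ∧ x ≠ 1 ∧ y ≠ 1 := by
  obtain ⟨x, y, h1, hx, hy, hxd, hyd, hx1, hy1⟩ := h A A.det_coe
  refine ⟨⟨x, hxd⟩, ⟨y, hyd⟩, Subtype.ext h1, Subtype.ext ?_, Subtype.ext ?_, ?_, ?_⟩
  · exact (Matrix.SpecialLinearGroup.coe_pow _ n).trans (hx.trans Matrix.SpecialLinearGroup.coe_one.symm)
  · exact (Matrix.SpecialLinearGroup.coe_pow _ n).trans (hy.trans Matrix.SpecialLinearGroup.coe_one.symm)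
  · intro h2
    exact hx1 ((congrArg Subtype.val h2).trans Matrix.SpecialLinearGroup.coe_one)
  · intro h2
    exact hy1 ((congrArg Subtype.val h2).trans Matrix.SpecialLinearGroup.coe_one)

/-- special linear form over any field of `q` elements -/
theorem sl_of' {q n : ℕ} [Fact q.Prime]
    (h : ∀ A : Matrix (Fin 3) (Fin 3) (ZMod q), A.det = 1 → ∃ x y : Matrix (Fin 3) (Fin 3) (ZMod q), A = x * y ∧
      x ^ n = 1 ∧ y ^ n = 1 ∧ x.det = 1 ∧ y.det = 1 ∧ x ≠ 1 ∧ y ≠ 1) (F : Type*) [Field F] [Finite F] (hF : Nat.card F = q)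
    (A : SpecialLinearGroup (Fin 3) F) :
    ∃ x y : SpecialLinearGroup (Fin 3) F, A = x * y ∧ x ^ n = 1 ∧ y ^ n = 1 ∧ x ≠ 1 ∧ y ≠ 1 := by
  have : Fintype F := Fintype.ofFinite F
  let e : ZMod q ≃+* F := ZMod.ringEquivOfPrime F Fact.out (by rw [← Nat.card_eq_fintype_card, hF])
  let f := SpecialLinearGroup.map (n := Fin 3) (e : ZMod q →+* F)
  let g := SpecialLinearGroup.map (n := Fin 3) (e.symm : F →+* ZMod q)
  have hfg : ∀ B, f (g B) = B := by
    intro B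
    ext i j
    simp [f, g]
  have hgf : ∀ B, g (f B) = B := by
    intro B
    ext i j
    simp [f, g]
  obtain ⟨x, y, h1, hx, hy, hx1, hy1⟩ := sl_of h (g A)
  refine ⟨f x, f y, ?_, ?_, ?_, ?_, ?_⟩
  · rw [← map_mul, ← h1, hfg]
  · rw [← map_pow, hx, map_one]
  · rw [← map_pow, hy, map_one]
  · intro h2
    apply hx1
    rw [← hgf x, h2, map_one]
  · intro h2
    apply hy1
    rw [← hgf y, h2, map_one]

/-- **`SL_3(2)`** -/
theorem sl_two {F : Type*} [Field F] [Finite F] (hF : Nat.card F = 2) (A : SpecialLinearGroup (Fin 3) F) :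
    ∃ x y : SpecialLinearGroup (Fin 3) F, A = x * y ∧ x ^ 7 = 1 ∧ y ^ 7 = 1 ∧ x ≠ 1 ∧ y ≠ 1 :=
  sl_of' mat_two F hF A

/-- **`SL_3(3)`** -/
theorem sl_three {F : Type*} [Field F] [Finite F] (hF : Nat.card F = 3) (A : SpecialLinearGroup (Fin 3) F) :
    ∃ x y : SpecialLinearGroup (Fin 3) F, A = x * y ∧ x ^ 13 = 1 ∧ y ^ 13 = 1 ∧ x ≠ 1 ∧ y ≠ 1 :=
  sl_of' mat_three F hF A

end Cfsg.Agent.H98.Pw

private theorem dce_4911e6d74ad2 : _root_.True := by
  try have : _root_.True := by simp only [_root_.Cfsg.Agent.H98.Pw.mkL.eq_1]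
  try have : _root_.True := by simp only [_root_.Cfsg.Agent.H98.Pw.mk9.eq_1]
  try have : _root_.True := by simp only [_root_.Cfsg.Agent.H98.Pw.ck.eq_1]
  try have : _root_.True := by simp only [_root_.Cfsg.Agent.H98.Pw.allB.eq_1]
  try have : _root_.True := by simp only [_root_.Cfsg.Agent.H98.Pw.s2.eq_1]
  exact _root_.True.intro
end

-- part: H85/Pw/IrrThree
section
set_option linter.all false
open scoped Cfsg.Agent.FastGrp

/-!
# Elements of order prime to `(q - 1)(q² - 1)` of `SL_3(q)` are irreducible (S2465)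

* `irr_of_pow` : `x ≠ 1`, `x ^ N = 1`, `N` prime to `q ^ 2 - 1` and to `q`;
* `p_three_three` : `|K| = 3`: `A = x y`, `x`, `y` irreducible, `x ^ 13 = y ^ 13 = 1`.
-/

set_option autoImplicit false
set_option linter.unusedSectionVars false

namespace Cfsg.Agent.H85.Pw

open Polynomial

universe u

theorem one_of_coprime {F : Type*} [Field F] {N₁ N₂ : ℕ} (hc : N₁.Coprime N₂) {v : F} (h1 : v ^ N₁ = 1)
    (h2 : v ^ N₂ = 1) : v = 1 := by
  have h3 := Nat.dvd_gcd (orderOf_dvd_of_pow_eq_one h1) (orderOf_dvd_of_pow_eq_one h2)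
  rw [hc.gcd_eq_one, Nat.dvd_one] at h3
  exact orderOf_eq_one_iff.1 h3

theorem irr_of_pow {K : Type u} [Field K] [Finite K] {N : ℕ} (hN0 : N ≠ 0) (h2 : N.Coprime (Nat.card K ^ 2 - 1))
    (hq : N.Coprime (Nat.card K)) {x : Matrix.SpecialLinearGroup (Fin 3) K} (hx : x ^ N = 1) (hx1 : x ≠ 1) :
    Irreducible x.1.charpoly := by
  obtain ⟨p, hpc⟩ := CharP.exists K
  have hpp : Fact p.Prime := ⟨(CharP.char_is_prime_or_zero K p).resolve_right (CharP.char_ne_zero_of_finite K p)⟩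
  have hK' : Nat.card (FiniteField.Extension K p 2) = Nat.card K ^ 2 := FiniteField.natCard_extension K p 2
  have := Fintype.ofFinite K
  have hd : x.1.charpoly.natDegree = 3 := by rw [Matrix.charpoly_natDegree_eq_dim, Fintype.card_fin]
  have hm := x.1.charpoly_monic
  by_contra hirr
  -- every root in the quadratic extension is one
  have key : ∀ z : FiniteField.Extension K p 2,
      (x.1.charpoly.map (algebraMap K (FiniteField.Extension K p 2))).IsRoot z → z = 1 := by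
    intro z hz
    have h3 := root_pow hx hz
    have := Fintype.ofFinite (FiniteField.Extension K p 2)
    have hz0 : z ≠ 0 := by
      rintro rfl
      rw [zero_pow hN0] at h3
      exact zero_ne_one h3
    have h4 := FiniteField.pow_card_sub_one_eq_one z hz0
    rw [← Nat.card_eq_fintype_card, hK'] at h4
    exact one_of_coprime h2 h3 h4
  have hkey : ∀ c : K, x.1.charpoly.IsRoot c → c = 1 := by
    intro c hc
    apply (algebraMap K (FiniteField.Extension K p 2)).injective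
    rw [map_one]
    exact key _ (hc.map)
  -- a root in `K`
  obtain ⟨c, hc⟩ : ∃ c, x.1.charpoly.IsRoot c := by
    by_contra hcon
    push Not at hcon
    apply hirr
    rw [hm.irreducible_iff_roots_eq_zero_of_degree_le_three (by omega) (by omega)]
    exact Multiset.eq_zero_of_forall_notMem fun y hy => hcon y ((mem_roots hm.ne_zero).1 hy)
  obtain rfl := hkey c hc
  obtain ⟨g, hg⟩ := dvd_iff_isRoot.2 hc
  have hgm : g.Monic := (monic_X_sub_C (1 : K)).of_mul_monic_left (hg ▸ hm)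
  have hgd : g.natDegree = 2 := by
    rw [hg, (monic_X_sub_C (1 : K)).natDegree_mul hgm, natDegree_X_sub_C] at hd
    omega
  have hgr : ∃ c, g.IsRoot c := by
    by_contra hcon
    push Not at hcon
    have hgi : Irreducible g := by
      rw [hgm.irreducible_iff_roots_eq_zero_of_degree_le_three (by omega) (by omega)]
      exact Multiset.eq_zero_of_forall_notMem fun y hy => hcon y ((mem_roots hgm.ne_zero).1 hy)
    obtain ⟨lam, h3, h4⟩ := exists_lam_map (K' := FiniteField.Extension K p 2) hK' hgm hgd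
      (irr_dvd hgi (by rw [hgd]))
    have h5 : ∀ a, lam a = 1 := by
      intro a
      apply key
      rw [hg, Polynomial.map_mul, h4, IsRoot.def, eval_mul, eval_prod]
      rw [Finset.prod_eq_zero (Finset.mem_univ a) (by simp), mul_zero]
    exact absurd (h3 ((h5 0).trans (h5 1).symm)) (by decide)
  obtain ⟨c, hc'⟩ := hgr
  obtain rfl := hkey c (by rw [hg]; exact IsRoot.def.2 (by rw [eval_mul, IsRoot.def.1 hc', mul_zero]))
  obtain ⟨h, hh⟩ := dvd_iff_isRoot.2 hc'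
  have hhm : h.Monic := (monic_X_sub_C (1 : K)).of_mul_monic_left (hh ▸ hgm)
  have hhd : h.natDegree = 1 := by
    rw [hh, (monic_X_sub_C (1 : K)).natDegree_mul hhm, natDegree_X_sub_C] at hgd
    omega
  obtain ⟨y, hy⟩ : ∃ y, h = X - C y := by
    refine ⟨-h.coeff 0, ?_⟩
    have h1 := hhm.as_sum
    rw [hhd, Finset.sum_range_one] at h1
    rw [h1]
    simp
  obtain rfl : y = 1 := hkey y (by
    rw [hg, hh, hy]
    simp [IsRoot.def])
  -- unipotent
  have hch : x.1.charpoly = (X - C 1) ^ 3 := by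
    rw [hg, hh, hy]
    ring
  have hCH : (x.1 - 1) ^ 3 = 0 := by
    have h1 := Matrix.aeval_self_charpoly x.1
    rwa [hch, map_pow, map_sub, aeval_X, map_one, map_one] at h1
  obtain ⟨e, he⟩ : ∃ e, 3 ≤ p ^ e := ⟨3, by
    calc 3 ≤ 2 ^ 3 := by norm_num
      _ ≤ p ^ 3 := Nat.pow_le_pow_left hpp.1.two_le 3⟩
  have h1 : x.1 ^ (p ^ e) = 1 := by
    have h3 : (x.1 - 1) ^ (p ^ e) = 0 := by
      rw [← Nat.sub_add_cancel he, pow_add, hCH, mul_zero]
    have h4 : x.1 = 1 + (x.1 - 1) := by abel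
    have h5 : Commute (1 : Matrix (Fin 3) (Fin 3) K) (x.1 - 1) := Commute.one_left _
    rw [h4, add_pow_char_pow_of_commute p e h5, one_pow]
    have h6 : (1 + (x.1 - 1) - 1 : Matrix (Fin 3) (Fin 3) K) = x.1 - 1 := by abel
    rw [h3, add_zero]
  have h3 : x ^ (p ^ e) = 1 := Subtype.ext ((Matrix.SpecialLinearGroup.coe_pow x (p ^ e)).trans
    (h1.trans Matrix.SpecialLinearGroup.coe_one.symm))
  have h4 : N.Coprime (p ^ e) := by
    obtain ⟨n, -, hn⟩ := FiniteField.card K p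
    have h5 : p ∣ Nat.card K := by
      rw [Nat.card_eq_fintype_card, hn]
      exact dvd_pow_self p n.2.ne'
    exact Nat.Coprime.pow_right e (Nat.Coprime.coprime_dvd_right h5 hq)
  have h5 := Nat.dvd_gcd (orderOf_dvd_of_pow_eq_one hx) (orderOf_dvd_of_pow_eq_one h3)
  rw [h4.gcd_eq_one, Nat.dvd_one] at h5
  exact hx1 (orderOf_eq_one_iff.1 h5)

/-- **`SL_3(3)`** -/
theorem p_three_three {K : Type u} [Field K] [Finite K] (hK : Nat.card K = 3) (A : Matrix.SpecialLinearGroup (Fin 3) K) :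
    ∃ x y : Matrix.SpecialLinearGroup (Fin 3) K, A = x * y ∧ Irreducible x.1.charpoly ∧ Irreducible y.1.charpoly ∧
      x ^ 13 = 1 ∧ y ^ 13 = 1 := by
  obtain ⟨x, y, h1, hx, hy, hx1, hy1⟩ := Cfsg.Agent.H98.Pw.sl_three hK A
  have h2 : Nat.Coprime 13 (Nat.card K ^ 2 - 1) := by rw [hK]; decide
  have h3 : Nat.Coprime 13 (Nat.card K) := by rw [hK]; decide
  exact ⟨x, y, h1, irr_of_pow (by norm_num) h2 h3 hx hx1, irr_of_pow (by norm_num) h2 h3 hy hy1, hx, hy⟩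

/-- **`SL_3(2)`** -/
theorem p_three_two {K : Type u} [Field K] [Finite K] (hK : Nat.card K = 2) (A : Matrix.SpecialLinearGroup (Fin 3) K) :
    ∃ x y : Matrix.SpecialLinearGroup (Fin 3) K, A = x * y ∧ Irreducible x.1.charpoly ∧ Irreducible y.1.charpoly ∧
      x ^ 7 = 1 ∧ y ^ 7 = 1 := by
  obtain ⟨x, y, h1, hx, hy, hx1, hy1⟩ := Cfsg.Agent.H98.Pw.sl_two hK A
  have h2 : Nat.Coprime 7 (Nat.card K ^ 2 - 1) := by rw [hK]; decide
  have h3 : Nat.Coprime 7 (Nat.card K) := by rw [hK]; decide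
  exact ⟨x, y, h1, irr_of_pow (by norm_num) h2 h3 hx hx1, irr_of_pow (by norm_num) h2 h3 hy hy1, hx, hy⟩

end Cfsg.Agent.H85.Pw
end
end
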